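import Cfsg.Agent.M23Ext.Checks
import Cfsg.Agent.Mathieu.General

/-!
The extension of M23 by the cocode module: pairs `(f, σ)` of a permutation in M23 and a function `f` on the
shortened Golay code whose coboundary is the change of the code loop cocycle under `σ`.
-/

set_option autoImplicit false

namespace CfsgLib.M23Ext

open CfsgLib.Mathieu Cfsg

/-- Words. -/
abbrev Word : Type := GolayPt → ZMod 2

theorem zmod_cases : ∀ z : ZMod 2, z = 0 ∨ z = 1 := by decide

theorem support₂_injective : Function.Injective (support₂ (α := GolayPt)) := by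
  intro u v h
  funext p
  have := Finset.ext_iff.1 h p
  simp only [support₂, Finset.mem_filter, Finset.mem_univ, true_and] at this
  rcases zmod_cases (u p) with a | a <;> rcases zmod_cases (v p) with b | b <;> simp_all

/-- The shortened code. -/
def short : Submodule (ZMod 2) Word := golayCode ⊓ LinearMap.ker (LinearMap.proj (none : GolayPt))

theorem additive_xorSel {W : Type*} [AddCommMonoid W] (G : ℕ → W) (h0 : G 0 = 0)
    (hadd : ∀ x y, G (x ^^^ y) = G x + G y) :
    ∀ (l : List ℕ) (a : ℕ),
      G (xorSel l a) = ∑ j ∈ Finset.range l.length, if a.testBit j then G (l.getD j 0) else 0 := by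
  intro l
  induction l with
  | nil => intro a; simp [xorSel, h0]
  | cons r l ih =>
    intro a
    have hx : xorSel (r :: l) a = (if a.testBit 0 then r else 0) ^^^ xorSel l (a / 2) := by
      rcases Nat.mod_two_eq_zero_or_one a with h | h <;> simp [xorSel, h, Nat.testBit_zero]
    rw [hx, hadd, ih, List.length_cons, Finset.sum_range_succ']
    rw [add_comm]
    congr 1
    · refine Finset.sum_congr rfl fun j _ => ?_
      rw [Nat.testBit_succ]; rfl
    · split_ifs <;> simp [h0]

theorem wordOf_xorSel (l : List ℕ) (a : ℕ) :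
    wordOf (xorSel l a) = ∑ j ∈ Finset.range l.length, if a.testBit j then wordOf (l.getD j 0) else 0 :=
  additive_xorSel wordOf wordOf_zero wordOf_xor l a

theorem shortRows_length : shortRows.length = 11 := by decide +kernel

/-- The mask of the word with coordinates `a`. -/
def shortMask (a : ℕ) : ℕ := xorSel shortRows a

theorem shortMask_code (a : ℕ) : wordOf (shortMask a) ∈ short := by
  rw [shortMask, wordOf_xorSel, shortRows_length]
  refine Submodule.sum_mem _ fun j hj => ?_
  split_ifs
  · rw [Finset.mem_range] at hj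
    have h := (by decide +kernel : ∀ j < 11, isCode (shortRows.getD j 0) = true ∧
      (shortRows.getD j 0).testBit 23 = false) j hj
    refine ⟨wordOf_mem_of_isCode h.1, ?_⟩
    show wordOf (shortRows.getD j 0) none = 0
    have h2 := h.2
    simp only [List.getD_eq_getElem?_getD] at h2
    simp [wordOf, show idx none = 23 from rfl, h2]
  · exact zero_mem _

/-- The element of the shortened code with coordinates `a`. -/
def wd (a : ℕ) : short := ⟨wordOf (shortMask a), shortMask_code a⟩

theorem wd_xor (a b : ℕ) : wd (a ^^^ b) = wd a + wd b :=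
  Subtype.ext (by
    show wordOf (shortMask (a ^^^ b)) = wordOf (shortMask a) + wordOf (shortMask b)
    rw [shortMask, xorSel_xor, wordOf_xor]; rfl)

theorem wd_zero : wd 0 = 0 := by
  have := wd_xor 0 0
  rw [Nat.xor_self] at this
  exact left_eq_add.1 this

/-- The basis. -/
def row (j : ℕ) : short := wd (2 ^ j)

/-- The coordinates. -/
def coe (j : ℕ) (v : short) : ZMod 2 := (v : Word) (pt j)

theorem shortMask_row : ∀ j < 11, shortMask (2 ^ j) = shortRows.getD j 0 := by decide +kernel

theorem shortMask_low_all :
    (allBelow 2048 fun a => shortMask a % 2048 == a) = true := by decide +kernel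

theorem shortMask_span_all :
    (allBelow 4096 fun m => (codeMask m).testBit 23 || (shortMask (codeMask m % 2048) == codeMask m)) = true := by
  decide +kernel

theorem shortMask_testBit {a i : ℕ} (ha : a < 2048) (hi : i < 11) :
    (shortMask a).testBit i = a.testBit i := by
  have h := beq_iff_eq.1 (allBelow_iff.1 shortMask_low_all a ha)
  conv_rhs => rw [← h]
  rw [show (2048 : ℕ) = 2 ^ 11 from rfl, Nat.testBit_mod_two_pow]
  simp [hi]

theorem coe_wd {a i : ℕ} (ha : a < 2048) (hi : i < 11) :
    coe i (wd a) = if a.testBit i then 1 else 0 := by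
  show wordOf (shortMask a) (pt i) = _
  rw [wordOf, idx_pt (by omega), shortMask_testBit ha hi]

theorem exists_wd (v : short) : ∃ a, a < 2048 ∧ v = wd a := by
  obtain ⟨M, hM, hv⟩ := exists_isCode_of_mem v.2.1
  obtain ⟨m, hm, rfl⟩ := exists_codeMask hM
  have h := allBelow_iff.1 shortMask_span_all m hm
  have h23 : (codeMask m).testBit 23 = false := by
    have h0 : (v : Word) none = 0 := v.2.2
    rw [hv] at h0
    simpa [wordOf, show idx none = 23 from rfl] using h0
  rw [h23, Bool.false_or, beq_iff_eq] at h
  exact ⟨codeMask m % 2048, Nat.mod_lt _ (by norm_num), Subtype.ext (by rw [hv]; show _ = wordOf (shortMask _); rw [h])⟩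

theorem decompose (v : short) : v = ∑ j ∈ Finset.range 11, coe j v • row j := by
  obtain ⟨a, ha, rfl⟩ := exists_wd v
  refine Subtype.ext ?_
  rw [AddSubmonoidClass.coe_finsetSum]
  show wordOf (shortMask a) = _
  rw [shortMask, wordOf_xorSel, shortRows_length]
  refine Finset.sum_congr rfl fun j hj => ?_
  rw [Finset.mem_range] at hj
  rw [coe_wd ha hj, SetLike.val_smul, row]
  show _ = _ • wordOf (shortMask (2 ^ j))
  rw [shortMask_row j hj]
  split_ifs <;> simp

theorem coe_add (j : ℕ) (u v : short) : coe j (u + v) = coe j u + coe j v := rfl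

theorem coe_row {i j : ℕ} (hi : i < 11) (hj : j < 11) : coe i (row j) = if i = j then 1 else 0 := by
  rw [row, coe_wd (Nat.pow_lt_pow_right (by norm_num) hj) hi]
  simp [Nat.testBit_two_pow, eq_comm]

/-! ### The cocycle of the code loop -/

/-- Half the intersection with a row, plus a linear correction. -/
def quad (j : ℕ) (u : short) : ZMod 2 :=
  (((support₂ (u : Word) ∩ support₂ (row j : Word)).card / 2 : ℕ) : ZMod 2) +
    ∑ i ∈ Finset.range 11, if (linMasks.getD j 0).testBit i then coe i u else 0

/-- The cocycle. -/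
def phi (u v : short) : ZMod 2 := ∑ j ∈ Finset.range 11, coe j v * quad j u

/-- The triple intersection form. -/
def tri (u v w : short) : ZMod 2 := ∑ p, (u : Word) p * (v : Word) p * (w : Word) p

theorem phi_add_right (u v w : short) : phi u (v + w) = phi u v + phi u w := by
  simp only [phi, coe_add, add_mul, Finset.sum_add_distrib]

theorem half_card {α : Type*} [DecidableEq α] (s t : Finset α) (hs : Even s.card) (ht : Even t.card)
    (hst : Even (symmDiff s t).card) :
    ((((symmDiff s t).card / 2 : ℕ)) : ZMod 2) =
      ((s.card / 2 : ℕ) : ZMod 2) + ((t.card / 2 : ℕ) : ZMod 2) + ((s ∩ t).card : ZMod 2) := by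
  obtain ⟨a, ha⟩ := hs
  obtain ⟨b, hb⟩ := ht
  obtain ⟨c, hc⟩ := hst
  have h := card_symmDiff_add s t
  have : s.card / 2 + t.card / 2 = (symmDiff s t).card / 2 + (s ∩ t).card := by omega
  have h' := congrArg (Nat.cast : ℕ → ZMod 2) this
  push_cast at h'
  rw [h', add_assoc, CharTwo.add_self_eq_zero, add_zero]

theorem support₂_add (u v : Word) : support₂ (u + v) = symmDiff (support₂ u) (support₂ v) := by
  ext p
  simp only [support₂, Finset.mem_symmDiff, Finset.mem_filter, Finset.mem_univ, true_and, Pi.add_apply]
  rcases zmod_cases (u p) with a | a <;> rcases zmod_cases (v p) with b | b <;> simp [a, b]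
  exact CharTwo.add_self_eq_zero (1 : ZMod 2)

theorem supports_mem (u : short) : support₂ (u : Word) ∈ supports (golayCode : Set Word) := ⟨u, u.2.1, rfl⟩

theorem quad_add (j : ℕ) (u v : short) : quad j (u + v) = quad j u + quad j v + tri u v (row j) := by
  set E := support₂ (row j : Word)
  have hs : support₂ ((u + v : short) : Word) ∩ E =
      symmDiff (support₂ (u : Word) ∩ E) (support₂ (v : Word) ∩ E) := by
    rw [Submodule.coe_add, support₂_add]
    ext p
    simp only [Finset.mem_inter, Finset.mem_symmDiff]
    tauto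
  have htri : tri u v (row j) = (((support₂ (u : Word) ∩ E) ∩ (support₂ (v : Word) ∩ E)).card : ZMod 2) := by
    have e : ∀ p, (u : Word) p * (v : Word) p * (row j : Word) p =
        if p ∈ (support₂ (u : Word) ∩ E) ∩ (support₂ (v : Word) ∩ E) then 1 else 0 := by
      intro p
      rcases zmod_cases ((u : Word) p) with a | a <;> rcases zmod_cases ((v : Word) p) with b | b <;>
        rcases zmod_cases ((row j : Word) p) with c | c <;> simp [E, support₂, a, b, c]
    rw [tri, Finset.sum_congr rfl fun p _ => e p, Finset.sum_boole, Finset.filter_univ_mem]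
  have hev : ∀ w : short, Even (support₂ (w : Word) ∩ E).card := fun w =>
    supports_inter_even (supports_mem w) (supports_mem _)
  have hh := half_card _ _ (hev u) (hev v) (hs ▸ hev (u + v))
  rw [← hs, ← htri] at hh
  unfold quad
  rw [hh]
  simp only [coe_add, ite_add_zero, Finset.sum_add_distrib]
  ring

theorem phi_add_left (u v w : short) : phi (u + v) w = phi u w + phi v w + tri u v w := by
  have ht : tri u v w = ∑ j ∈ Finset.range 11, coe j w * tri u v (row j) := by
    conv_lhs => rw [decompose w]
    simp only [tri, AddSubmonoidClass.coe_finsetSum, SetLike.val_smul, Finset.sum_apply, Pi.smul_apply,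
      smul_eq_mul, Finset.mul_sum]
    rw [Finset.sum_comm]
    refine Finset.sum_congr rfl fun j _ => Finset.sum_congr rfl fun p _ => ?_
    ring
  rw [ht]
  simp only [phi, quad_add, mul_add, Finset.sum_add_distrib]

/-! ### The action and the group -/

theorem comp_mem_short {σ : Equiv.Perm GolayPt} (hσ : σ ∈ Spor.M23) {w : Word} (hw : w ∈ short) :
    w ∘ σ ∈ short := by
  obtain ⟨h24, hfix⟩ := mem_SporM23.1 hσ
  refine ⟨?_, ?_⟩
  · have hinv : σ⁻¹ ∈ M24 := inv_mem h24
    obtain ⟨x, hx, he⟩ := setSystemAut_image_mem hinv (show support₂ w ∈ supports (golayCode : Set Word) from ⟨w, hw.1, rfl⟩)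
    have : w ∘ σ = x := by
      apply support₂_injective
      rw [he]
      ext p
      simp only [support₂, Finset.mem_filter, Finset.mem_univ, true_and, Function.comp_apply, Finset.mem_image]
      constructor
      · exact fun h => ⟨σ p, h, by simp⟩
      · rintro ⟨y, hy, rfl⟩
        simpa using hy
    rw [this]
    exact hx
  · show w (σ none) = 0
    rw [hfix]
    exact hw.2

/-- The action of M23 on the shortened code. -/
def act (σ : Spor.M23) (v : short) : short :=
  ⟨(v : Word) ∘ ⇑((σ : Equiv.Perm GolayPt)⁻¹), comp_mem_short (inv_mem σ.2) v.2⟩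

theorem act_one (v : short) : act 1 v = v := rfl

theorem act_mul (σ τ : Spor.M23) (v : short) : act (σ * τ) v = act σ (act τ v) := by
  refine Subtype.ext ?_
  simp [act, mul_inv_rev, Equiv.Perm.coe_mul, Function.comp_assoc]

theorem act_add (σ : Spor.M23) (u v : short) : act σ (u + v) = act σ u + act σ v := rfl

/-- Functions on the shortened code, written multiplicatively. -/
abbrev Fns : Type := Multiplicative (↥short → ZMod 2)

/-- The action on functions. -/
def fnsAct : Spor.M23 →* MulAut Fns where
  toFun σ :=
    { toFun := fun f => Multiplicative.ofAdd fun v => f.toAdd (act σ⁻¹ v)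
      invFun := fun f => Multiplicative.ofAdd fun v => f.toAdd (act σ v)
      left_inv := fun f => by
        refine Multiplicative.toAdd.injective (funext fun v => ?_)
        simp [← act_mul, act_one]
      right_inv := fun f => by
        refine Multiplicative.toAdd.injective (funext fun v => ?_)
        simp [← act_mul, act_one]
      map_mul' := fun f g => rfl }
  map_one' := by
    refine MulEquiv.ext fun f => ?_
    refine Multiplicative.toAdd.injective (funext fun v => ?_)
    simp [act_one]
  map_mul' σ τ := by
    refine MulEquiv.ext fun f => ?_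
    refine Multiplicative.toAdd.injective (funext fun v => ?_)
    simp [← act_mul, mul_inv_rev]

/-- The change of the cocycle under a permutation. -/
def delta (σ : Spor.M23) (u v : short) : ZMod 2 := phi u v + phi (act σ⁻¹ u) (act σ⁻¹ v)

/-- The ambient group. -/
abbrev Amb : Type := Fns ⋊[fnsAct] Spor.M23

/-- The functional equation. -/
def IsLift (x : Amb) : Prop :=
  ∀ u v : short, x.left.toAdd (u + v) + x.left.toAdd u + x.left.toAdd v = delta x.right u v

theorem char_two_cancel (a b : ZMod 2) : a + (a + b) = b := by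
  rw [← add_assoc, CharTwo.add_self_eq_zero, zero_add]

theorem delta_mul (σ τ : Spor.M23) (u v : short) :
    delta (σ * τ) u v = delta σ u v + delta τ (act σ⁻¹ u) (act σ⁻¹ v) := by
  simp only [delta, mul_inv_rev, act_mul]
  rw [add_assoc, char_two_cancel]

/-- The extension of M23 by the cocode module. -/
def ext23 : Subgroup Amb where
  carrier := {x | IsLift x}
  one_mem' := fun u v => by simp [delta, act_one, CharTwo.add_self_eq_zero]
  mul_mem' {x y} hx hy := fun u v => by
    rw [SemidirectProduct.mul_right, delta_mul, ← hx u v, ← hy]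
    simp only [SemidirectProduct.mul_left, toAdd_mul, Pi.add_apply, fnsAct, MonoidHom.coe_mk, OneHom.coe_mk,
      MulEquiv.coe_mk, Equiv.coe_fn_mk, toAdd_ofAdd, act_add]
    ring
  inv_mem' {x} hx := fun u v => by
    have h := hx (act x.right u) (act x.right v)
    simp only [delta, ← act_mul, inv_mul_cancel, act_one] at h
    simp only [SemidirectProduct.inv_left, SemidirectProduct.inv_right, delta, inv_inv, fnsAct, MonoidHom.coe_mk,
      OneHom.coe_mk, MulEquiv.coe_mk, Equiv.coe_fn_mk, toAdd_ofAdd, toAdd_inv, Pi.neg_apply, CharTwo.neg_eq,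
      act_add]
    rw [h, add_comm]

/-- The projection to M23. -/
def proj : ext23 →* Spor.M23 := SemidirectProduct.rightHom.comp ext23.subtype

instance finiteExt23 : Finite ext23 := by
  haveI : Finite Amb := Finite.of_equiv _ SemidirectProduct.equivProd.symm
  exact Subtype.finite

/-! ### Lifts from tables -/

/-- The function of a truth table. -/
noncomputable def tabFun (q : ℕ) (v : short) : ZMod 2 :=
  if q.testBit (exists_wd v).choose then 1 else 0

theorem tabFun_wd (q : ℕ) {a : ℕ} (ha : a < 2048) : tabFun q (wd a) = if q.testBit a then 1 else 0 := by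
  obtain ⟨h1, h2⟩ := (exists_wd (wd a)).choose_spec
  have hb : (exists_wd (wd a)).choose = a := Nat.eq_of_testBit_eq fun i => by
    by_cases hi : i < 11
    · have := congrArg (coe i) h2
      rw [coe_wd h1 hi, coe_wd ha hi] at this
      revert this
      cases a.testBit i <;> cases (exists_wd (wd a)).choose.testBit i <;>
        simp only [Bool.false_eq_true, if_false, if_true, one_ne_zero, zero_ne_one, imp_false, false_implies,
          not_false_eq_true, implies_true]
    · have hp : 2048 ≤ 2 ^ i := (show 2048 = 2 ^ 11 from rfl) ▸ Nat.pow_le_pow_right (by norm_num) (by omega)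
      rw [Nat.testBit_lt_two_pow (by omega), Nat.testBit_lt_two_pow (by omega)]
  rw [tabFun, hb]

theorem quad_wd {j a : ℕ} (hj : j < 11) (ha : a < 2048) :
    quad j (wd a) = if (quadTabs.getD j 0).testBit a then 1 else 0 := by
  have h := beq_iff_eq.1 (allBelow_iff.1 (allBelow_iff.1 quad_ok j hj) a ha)
  rw [quad, row]
  show (((support₂ (wordOf (shortMask a)) ∩ support₂ (wordOf (shortMask (2 ^ j)))).card / 2 : ℕ) : ZMod 2) + _ = _
  rw [support₂_wordOf, support₂_wordOf, ← setOf24_and, card_setOf24, shortMask_row j hj]
  have hl : (∑ i ∈ Finset.range 11, if (linMasks.getD j 0).testBit i then coe i (wd a) else 0) =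
      (pop 11 (a &&& linMasks.getD j 0) : ZMod 2) := by
    rw [pop_eq, Finset.card_filter, Nat.cast_sum]
    refine Finset.sum_congr rfl fun i hi => ?_
    rw [coe_wd ha (Finset.mem_range.1 hi), Nat.testBit_and]
    cases a.testBit i <;> cases (linMasks.getD j 0).testBit i <;> simp
  rw [hl, ← Nat.cast_add, h]
  rw [shortMask]
  generalize wt (xorSel shortRows a &&& shortRows.getD j 0) / 2 + pop 11 (a &&& linMasks.getD j 0) = n
  rcases Nat.mod_two_eq_zero_or_one n with e | e
  · rw [e]; simpa using ZMod.natCast_eq_zero_iff_even.2 (Nat.even_iff.2 e)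
  · rw [e]; simpa using ZMod.natCast_eq_one_iff_odd.2 (Nat.odd_iff.2 e)

theorem quadTabs_length : quadTabs.length = 11 := by decide +kernel

theorem phi_wd {a m : ℕ} (ha : a < 2048) (hm : m < 2048) :
    phi (wd a) (wd m) = if (xorSel quadTabs m).testBit a then 1 else 0 := by
  have h := additive_xorSel (fun M : ℕ => (if M.testBit a then 1 else 0 : ZMod 2)) (by simp) (fun x y => by
    rw [Nat.testBit_xor]
    cases x.testBit a <;> cases y.testBit a <;> simp [CharTwo.add_self_eq_zero]) quadTabs m
  rw [phi, quadTabs_length] at *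
  rw [h]
  refine Finset.sum_congr rfl fun j hj => ?_
  rw [coe_wd hm (Finset.mem_range.1 hj), quad_wd (Finset.mem_range.1 hj) ha]
  split_ifs <;> simp

theorem xorSel_pre_lt {L : LiftData} (hlen : L.pre.length = 11) (hlt : ∀ j < 11, L.pre.getD j 0 < 2048) (a : ℕ) :
    xorSel L.pre a < 2048 := by
  refine xorSel_lt (b := 11) L.pre a fun r hr => ?_
  obtain ⟨j, hj, rfl⟩ := List.getElem_of_mem hr
  have := hlt j (hlen ▸ hj)
  rwa [List.getD_eq_getElem _ _ hj] at this

/-- A certified table gives an element of M23, a lift of it and the action on coordinates. -/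
theorem exists_lift {L : LiftData} (h : liftOK L = true) :
    ∃ σ : Spor.M23, Rep enc (σ : Equiv.Perm GolayPt) L.tbl ∧
      (∀ a < 2048, act σ⁻¹ (wd a) = wd (xorSel L.pre a) ∧ xorSel L.pre a < 2048) ∧
      (⟨Multiplicative.ofAdd (tabFun L.q), σ⟩ : Amb) ∈ ext23 := by
  simp only [liftOK, Bool.and_eq_true, allBelow_iff, beq_iff_eq, Nat.blt_eq] at h
  obtain ⟨⟨⟨⟨⟨⟨hv, hp⟩, h23⟩, hlen⟩, hpre⟩, hq0⟩, heq⟩ := h
  obtain ⟨σ, rσ⟩ := exists_rep_of_valid hv
  have h24 : σ ∈ M24 := mem_M24_of_table rσ hp
  have hfix : σ none = none := rσ.apply_eq enc h23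
  refine ⟨⟨σ, mem_SporM23.2 ⟨h24, hfix⟩⟩, rσ, ?_⟩
  set σ' : Spor.M23 := ⟨σ, mem_SporM23.2 ⟨h24, hfix⟩⟩
  have hrow : ∀ j < 11, act σ' (wd (L.pre.getD j 0)) = row j := by
    intro j hj
    refine Subtype.ext (support₂_injective ?_)
    show support₂ (wordOf (shortMask (L.pre.getD j 0)) ∘ ⇑σ⁻¹) = support₂ (wordOf (shortMask (2 ^ j)))
    rw [shortMask_row j hj, support₂_wordOf, ← (hpre j hj).2, ← image_setOf24 rσ]
    ext p
    simp only [support₂, Finset.mem_filter, Finset.mem_univ, true_and, Function.comp_apply, Finset.mem_image]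
    constructor
    · intro hne
      refine ⟨σ⁻¹ p, ?_, by simp⟩
      rw [← support₂_wordOf]
      simpa [support₂, shortMask] using hne
    · rintro ⟨y, hy, rfl⟩
      rw [← support₂_wordOf] at hy
      simpa [support₂, shortMask] using hy
  have hact : ∀ a < 2048, act σ'⁻¹ (wd a) = wd (xorSel L.pre a) ∧ xorSel L.pre a < 2048 := by
    intro a ha
    refine ⟨?_, xorSel_pre_lt hlen (fun j hj => (hpre j hj).1) a⟩
    let A : short →+ short := { toFun := act σ'⁻¹, map_zero' := rfl, map_add' := act_add σ'⁻¹ }
    show A (wd a) = _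
    rw [additive_xorSel wd wd_zero wd_xor L.pre a, hlen]
    conv_lhs => rw [decompose (wd a)]
    rw [map_sum]
    refine Finset.sum_congr rfl fun j hj => ?_
    rw [Finset.mem_range] at hj
    rw [coe_wd ha hj]
    have hr : A (row j) = wd (L.pre.getD j 0) := by
      show act σ'⁻¹ (row j) = _
      rw [← hrow j hj, ← act_mul, inv_mul_cancel, act_one]
    split_ifs <;> simp [hr]
  refine ⟨hact, ?_⟩
  set f := tabFun L.q with hf
  let D : short → short → ZMod 2 := fun u v => f (u + v) + f u + f v + delta σ' u v
  have hcoc : ∀ u v w, D (u + v) w + D u v + D v w + D u (v + w) = 0 := by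
    intro u v w
    have ht : tri (act σ'⁻¹ u) (act σ'⁻¹ v) (act σ'⁻¹ w) = tri u v w := by
      simp only [tri, act, inv_inv, Function.comp_apply]
      exact Equiv.sum_comp σ (fun p => (u : Word) p * (v : Word) p * (w : Word) p)
    simp only [D, delta, act_add, phi_add_left, phi_add_right, ht, ← add_assoc u v w]
    grind
  have hD0 : ∀ u j, j < 11 → D u (row j) = 0 := by
    intro u j hj
    obtain ⟨a, ha, rfl⟩ := exists_wd u
    have hj2 : 2 ^ j < 2048 := Nat.pow_lt_pow_right (n := 11) (by norm_num) hj
    have hx : a ^^^ 2 ^ j < 2048 := Nat.xor_lt_two_pow (n := 11) ha hj2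
    have hrw : act σ'⁻¹ (row j) = wd (L.pre.getD j 0) := by
      rw [← hrow j hj, ← act_mul, inv_mul_cancel, act_one]
    have hphi : phi (wd a) (row j) = if (quadTabs.getD j 0).testBit a then 1 else 0 := by
      rw [phi, Finset.sum_eq_single j (fun i hi hne => by rw [coe_row (Finset.mem_range.1 hi) hj, if_neg hne, zero_mul])
        (fun hni => absurd (Finset.mem_range.2 hj) hni), coe_row hj hj, if_pos rfl, one_mul, quad_wd hj ha]
    have hT : (mixTabs L).getD j 0 = xorSel quadTabs (L.pre.getD j 0) := by
      rw [mixTabs, List.getD_eq_getElem _ _ (by simpa [hlen] using hj), List.getElem_map,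
        List.getD_eq_getElem _ _ (by simpa [hlen] using hj)]
    simp only [D, delta]
    rw [hrw, (hact a ha).1, hphi, phi_wd (hact a ha).2 (hpre j hj).1, hf, row, ← wd_xor, tabFun_wd _ hx,
      tabFun_wd _ ha, tabFun_wd _ hj2]
    have he := heq a ha j hj
    rw [eqOK, hT, beq_iff_eq] at he
    revert he
    cases L.q.testBit (a ^^^ 2 ^ j) <;> cases L.q.testBit a <;> cases L.q.testBit (2 ^ j) <;>
      cases (quadTabs.getD j 0).testBit a <;>
      cases (xorSel quadTabs (L.pre.getD j 0)).testBit (xorSel L.pre a) <;> decide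
  have key : ∀ (c : ℕ → ZMod 2) (s : Finset ℕ), s ⊆ Finset.range 11 →
      ∀ u, D u (∑ j ∈ s, c j • row j) = 0 := by
    intro c s
    induction s using Finset.induction_on with
    | empty =>
      intro _ u
      have : f 0 = 0 := by rw [← wd_zero, hf, tabFun_wd _ (by norm_num), hq0]; simp
      simp only [Finset.sum_empty, D, delta, add_zero]
      rw [this, show act σ'⁻¹ (0 : short) = 0 from rfl]
      simp [phi, coe, CharTwo.add_self_eq_zero]
    | insert j s hjs ih =>
      intro hsub u
      have hs' := fun u => ih ((Finset.subset_insert j s).trans hsub) u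
      rw [Finset.sum_insert hjs]
      rcases zmod_cases (c j) with h | h
      · rw [h, zero_smul, zero_add]; exact hs' u
      · rw [h, one_smul]
        have hc := hcoc u (row j) (∑ i ∈ s, c i • row i)
        rwa [hs', hs', hD0 u j (Finset.mem_range.1 (hsub (Finset.mem_insert_self j s))), zero_add, zero_add,
          zero_add] at hc
  have hDzero : ∀ v u, D u v = 0 := fun v u => by
    rw [decompose v]
    exact key _ _ le_rfl u
  intro u v
  have := hDzero v u
  rwa [CharTwo.add_eq_zero] at this

end CfsgLib.M23Ext
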