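import Cfsg.Agent.M23Ext.Checks

/-!
Evaluation of the certificates for the generators.
-/

set_option autoImplicit false

namespace CfsgLib.M23Ext

theorem genLifts_take_ok : (genLifts.take 5).all liftOK = true := by decide +kernel

end CfsgLib.M23Ext
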