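import Cfsg.Agent.M23Ext.Loop
import Cfsg.Agent.M23Ext.ChecksGen
import Cfsg.Agent.M23Ext.ChecksRest

/-!
The extension of M23 by the cocode module is onto M23, has the cocode as kernel and does not split.
-/

set_option autoImplicit false

namespace CfsgLib.M23Ext

open CfsgLib.Mathieu Cfsg

theorem genLifts_ok : genLifts.all liftOK = true := by
  rw [← List.take_append_drop 5 genLifts, List.all_append, genLifts_take_ok, genLifts_drop_ok]
  rfl

theorem proj_surjective : Function.Surjective proj := by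
  rw [← MonoidHom.range_eq_top, eq_top_iff]
  rintro σ -
  let H : Subgroup (Equiv.Perm GolayPt) := proj.range.map Spor.M23.subtype
  have hH : H ≤ M24 := by
    rintro _ ⟨x, -, rfl⟩
    exact SporM23_le x.2
  have hgens : ∀ t ∈ genLifts.map LiftData.tbl, InGroup enc H t := by
    intro t ht
    obtain ⟨L, hL, rfl⟩ := List.mem_map.1 ht
    obtain ⟨s, hs, -, hmem⟩ := exists_lift (List.all_eq_true.1 genLifts_ok L hL)
    exact ⟨s, ⟨s, ⟨⟨_, hmem⟩, rfl⟩, rfl⟩, hs⟩
  have hok : reachChainOK (genLifts.map LiftData.tbl) (m24Levels.drop 1) [pt 23] levelTrees = true := by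
    decide +kernel
  have hchain := (m24Levels_tail1.change _ _ (isReachChain_of_ok hgens _ _ _ hok)).spec hH _ _
  have hmem : (σ : Equiv.Perm GolayPt) ∈ H := hchain.1 (by rw [← SporM23_eq]; exact σ.2)
  obtain ⟨x, hx, he⟩ := hmem
  rw [← Subtype.ext he]
  exact hx

/-- The function part of a product. -/
theorem left_mul (x y : Amb) (v : short) :
    (x * y).left.toAdd v = x.left.toAdd v + y.left.toAdd (act x.right⁻¹ v) := rfl

/-- The function part of an inverse. -/
theorem left_inv_apply (x : Amb) (v : short) : (x⁻¹).left.toAdd v = x.left.toAdd (act x.right v) := by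
  show -(x.left.toAdd (act (x.right⁻¹)⁻¹ v)) = _
  rw [inv_inv, CharTwo.neg_eq]

/-- The linear functional of a word on the shortened code. -/
def pairing (w : Word) (v : short) : ZMod 2 := ∑ p, w p * (v : Word) p

theorem pairing_add_right (w : Word) (u v : short) : pairing w (u + v) = pairing w u + pairing w v := by
  simp only [pairing, Submodule.coe_add, Pi.add_apply, mul_add, Finset.sum_add_distrib]

theorem delta_one (u v : short) : delta 1 u v = 0 := by simp [delta, act_one, CharTwo.add_self_eq_zero]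

/-- The element of the extension given by a word. -/
def thetaFun (w : Word) : ↥proj.ker :=
  ⟨⟨⟨Multiplicative.ofAdd (pairing w), 1⟩, fun u v => by
    show pairing w (u + v) + pairing w u + pairing w v = delta 1 u v
    rw [delta_one, pairing_add_right]
    grind⟩, rfl⟩

/-- The cocode map. -/
def theta : Word →+ Additive ↥proj.ker where
  toFun w := Additive.ofMul (thetaFun w)
  map_zero' := by
    refine congrArg Additive.ofMul (Subtype.ext (Subtype.ext ?_))
    refine SemidirectProduct.ext ?_ rfl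
    refine Multiplicative.toAdd.injective (funext fun v => ?_)
    simp [thetaFun, pairing]
  map_add' w z := by
    refine congrArg Additive.ofMul (Subtype.ext (Subtype.ext ?_))
    show (thetaFun (w + z)).1.1 = (thetaFun w).1.1 * (thetaFun z).1.1
    refine SemidirectProduct.ext ?_ (by simp [thetaFun])
    refine Multiplicative.toAdd.injective (funext fun v => ?_)
    show pairing (w + z) v = pairing w v + pairing z (act (1 : Spor.M23)⁻¹ v)
    simp [pairing, act_one, add_mul, Finset.sum_add_distrib]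

theorem eq_one_iff (x : ↥proj.ker) : x = 1 ↔ ∀ v, x.1.1.left.toAdd v = 0 := by
  refine ⟨fun h v => by subst h; rfl, fun h => Subtype.ext (Subtype.ext (SemidirectProduct.ext ?_ x.2))⟩
  exact Multiplicative.toAdd.injective (funext h)

theorem theta_surjective : Function.Surjective theta := by
  intro y
  obtain ⟨⟨⟨⟨f, s⟩, hx⟩, hs⟩, rfl⟩ := Additive.ofMul.surjective y
  obtain rfl : s = 1 := hs
  have hadd : ∀ u v, f.toAdd (u + v) = f.toAdd u + f.toAdd v := fun u v => by
    have := hx u v
    rw [delta_one] at this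
    simp only at this
    grind
  let fh : short →+ ZMod 2 := AddMonoidHom.mk' f.toAdd hadd
  let w : Word := ∑ j ∈ Finset.range 11, Pi.single (pt j) (fh (row j))
  refine ⟨w, congrArg Additive.ofMul (Subtype.ext (Subtype.ext (SemidirectProduct.ext ?_ rfl)))⟩
  refine Multiplicative.toAdd.injective (funext fun v => ?_)
  show pairing w v = fh v
  conv_rhs => rw [decompose v, map_sum]
  simp only [pairing, w, Finset.sum_apply, Finset.sum_mul]
  rw [Finset.sum_comm]
  refine Finset.sum_congr rfl fun j _ => ?_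
  rw [Finset.sum_eq_single (pt j)]
  · rw [Pi.single_eq_same]
    rcases zmod_cases (coe j v) with h | h <;>
      rw [h] <;> rw [coe] at h <;> simp [h]
  · intro p _ hp; simp [hp]
  · simp

theorem mem_code_of_dot {w : Word} (h : ∀ v ∈ golayCode, ∑ p, w p * v p = 0) : w ∈ golayCode := by
  let ψ : Word →ₗ[ZMod 2] Module.Dual (ZMod 2) golayCode :=
    golayCode.dualRestrict ∘ₗ (dotProductEquiv (ZMod 2) GolayPt).toLinearMap
  have hsurj : Function.Surjective ψ :=
    Subspace.dualRestrict_surjective.comp (dotProductEquiv (ZMod 2) GolayPt).surjective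
  have hle : golayCode ≤ LinearMap.ker ψ := fun u hu => LinearMap.ext fun v => golayCode_dot hu v.2
  have hdim := LinearMap.finrank_range_add_finrank_ker ψ
  rw [LinearMap.range_eq_top.2 hsurj, finrank_top, Subspace.dual_finrank_eq, finrank_golayCode,
    Module.finrank_pi, show Fintype.card GolayPt = 24 from rfl] at hdim
  have hk := Nat.add_left_cancel (hdim.trans (show (24 : ℕ) = 12 + 12 from rfl))
  have heq := Submodule.eq_of_le_of_finrank_le hle (by rw [finrank_golayCode]; exact hk.le)
  rw [heq, LinearMap.mem_ker]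
  exact LinearMap.ext fun v => h v v.2

theorem theta_eq_zero_iff (w : Word) :
    theta w = 0 ↔ (w ∈ golayCode ∨ w + Pi.single none 1 ∈ golayCode) := by
  have h0 : theta w = 0 ↔ ∀ v : short, pairing w v = 0 :=
    (Additive.ofMul.apply_eq_iff_eq (x := thetaFun w) (y := 1)).trans (eq_one_iff _)
  have he : ∀ v : Word, ∑ p, (Pi.single (none : GolayPt) (1 : ZMod 2) : Word) p * v p = v none := fun v => by
    rw [Finset.sum_eq_single none] <;> simp +contextual
  rw [h0]
  constructor
  · intro h
    have hone : (1 : Word) ∈ golayCode := Submodule.subset_span (Or.inr rfl)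
    have hval : ∀ v ∈ golayCode, ∑ p, w p * v p = v none * ∑ p, w p := by
      intro v hv
      have hmem : v + v none • (1 : Word) ∈ short :=
        ⟨add_mem hv (Submodule.smul_mem _ _ hone), by
          show v none + v none * 1 = 0
          rw [mul_one, CharTwo.add_self_eq_zero]⟩
      have := h ⟨_, hmem⟩
      simp only [pairing, Pi.add_apply, Pi.smul_apply, Pi.one_apply, smul_eq_mul, mul_one, mul_add,
        Finset.sum_add_distrib] at this
      rw [CharTwo.add_eq_zero.1 this, ← Finset.sum_mul]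
      ring
    rcases zmod_cases (∑ p, w p) with hs | hs
    · exact Or.inl (mem_code_of_dot fun v hv => by rw [hval v hv, hs, mul_zero])
    · refine Or.inr (mem_code_of_dot fun v hv => ?_)
      simp only [Pi.add_apply, add_mul, Finset.sum_add_distrib, he, hval v hv, hs, mul_one,
        CharTwo.add_self_eq_zero]
  · rintro (h | h) v
    · exact golayCode_dot h v.2.1
    · have h2 := golayCode_dot h v.2.1
      simp only [Pi.add_apply, add_mul, Finset.sum_add_distrib, he] at h2
      rw [show (v : Word) none = 0 from v.2.2, add_zero] at h2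
      exact h2

theorem theta_conj (g : ↥ext23) (w : Word) :
    ((theta (w ∘ ⇑((((QuotientGroup.quotientKerEquivOfSurjective proj proj_surjective) (QuotientGroup.mk g) :
      ↥Spor.M23) : Equiv.Perm GolayPt)⁻¹))).toMul : ↥ext23) = g * ((theta w).toMul : ↥ext23) * g⁻¹ := by
  show (thetaFun (w ∘ ⇑((g.1.right : Equiv.Perm GolayPt)⁻¹))).1 = g * (thetaFun w).1 * g⁻¹
  refine Subtype.ext (SemidirectProduct.ext ?_ (by simp [thetaFun]))
  refine Multiplicative.toAdd.injective (funext fun v => ?_)
  have hp : pairing (w ∘ ⇑((g.1.right : Equiv.Perm GolayPt)⁻¹)) v = pairing w (act g.1.right⁻¹ v) := by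
    simp only [pairing, act, Function.comp_apply, InvMemClass.coe_inv, inv_inv]
    rw [← Equiv.sum_comp (g.1.right : Equiv.Perm GolayPt)]
    simp
  show pairing (w ∘ ⇑((g.1.right : Equiv.Perm GolayPt)⁻¹)) v = _
  rw [hp, Subgroup.coe_mul, Subgroup.coe_mul, Subgroup.coe_inv, left_mul, left_mul, left_inv_apply,
    SemidirectProduct.mul_right]
  show _ = _ + pairing w (act g.1.right⁻¹ v) + g.1.left.toAdd (act g.1.right (act (g.1.right * 1)⁻¹ v))
  rw [mul_one, ← act_mul, mul_inv_cancel, act_one]
  grind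

theorem no_complement (H : Subgroup ↥ext23) (hinf : H ⊓ proj.ker = ⊥) : H ⊔ proj.ker ≠ ⊤ := by
  intro hsup
  have hsurj : ∀ σ : Spor.M23, ∃ h ∈ H, proj h = σ := by
    intro σ
    obtain ⟨g, rfl⟩ := proj_surjective σ
    obtain ⟨h, hh, n, hn, rfl⟩ := (Subgroup.mem_sup_of_normal_right).1 (hsup ▸ Subgroup.mem_top g)
    exact ⟨h, hh, by rw [map_mul, MonoidHom.mem_ker.1 hn, mul_one]⟩
  have huniq : ∀ x ∈ H, ∀ y ∈ H, proj x = proj y → x = y := by
    intro x hx y hy h
    have hm : x * y⁻¹ ∈ H ⊓ proj.ker :=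
      Subgroup.mem_inf.2 ⟨mul_mem hx (inv_mem hy), MonoidHom.mem_ker.2 (by rw [map_mul, map_inv, h, mul_inv_cancel])⟩
    rw [hinf, Subgroup.mem_bot] at hm
    exact mul_inv_eq_one.1 hm
  obtain ⟨sA, rA, hactA, hmemA⟩ := exists_lift liftA_ok
  obtain ⟨sB, rB, hactB, hmemB⟩ := exists_lift liftB_ok
  obtain ⟨hA, hAH, hAp⟩ := hsurj sA
  obtain ⟨hB, hBH, hBp⟩ := hsurj sB
  have hrep : ∀ (L : LiftData) (s : Spor.M23) (h : ↥ext23), proj h = s →
      (⟨Multiplicative.ofAdd (tabFun L.q), s⟩ : Amb) ∈ ext23 →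
      ∃ d : short →+ ZMod 2, ∀ n < 2048, h.1.left.toAdd (wd n) = (if L.q.testBit n then 1 else 0) + d (wd n) := by
    intro L s h hp hmem
    have hr : h.1.right = s := hp
    refine ⟨AddMonoidHom.mk' (fun v => h.1.left.toAdd v + tabFun L.q v) fun u v => ?_, fun n hn => ?_⟩
    · have h1 := h.2 u v
      have h2 := hmem u v
      rw [hr] at h1
      simp only [toAdd_ofAdd] at h2
      grind
    · show _ = _ + (h.1.left.toAdd (wd n) + tabFun L.q (wd n))
      rw [tabFun_wd _ hn]
      grind
  obtain ⟨dA, hdA⟩ := hrep liftA sA hA hAp hmemA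
  obtain ⟨dB, hdB⟩ := hrep liftB sB hB hBp hmemB
  have rr : ∀ {x y : Spor.M23} {a b : ℕ}, Rep enc (x : Equiv.Perm GolayPt) a → Rep enc (y : Equiv.Perm GolayPt) b →
      ∀ p, (x : Equiv.Perm GolayPt) ((y : Equiv.Perm GolayPt) p) = pt (app a (app b (idx p))) := by
    intro x y a b hx hy p
    have h1 : app b (idx p) = idx ((y : Equiv.Perm GolayPt) p) := hy p
    have h2 : app a (idx ((y : Equiv.Perm GolayPt) p)) = idx ((x : Equiv.Perm GolayPt) ((y : Equiv.Perm GolayPt) p)) := hx _
    rw [h1, h2, pt_idx]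
  have r1 : sB * sB = 1 := by
    refine Subtype.ext (Equiv.ext fun p => ?_)
    show (sB : Equiv.Perm GolayPt) ((sB : Equiv.Perm GolayPt) p) = p
    rw [rr rB rB]
    revert p
    decide +kernel
  have one_step : ∀ {x : Spor.M23} {a : ℕ}, Rep enc (x : Equiv.Perm GolayPt) a →
      ∀ p, (x : Equiv.Perm GolayPt) p = pt (app a (idx p)) := by
    intro x a hx p
    have h1 : app a (idx p) = idx ((x : Equiv.Perm GolayPt) p) := hx p
    rw [h1, pt_idx]
  have r2 : sB * sA * sA = sA * sA * sB := by
    refine Subtype.ext (Equiv.ext fun p => ?_)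
    simp only [Subgroup.coe_mul, Equiv.Perm.mul_apply, one_step rA, one_step rB]
    revert p
    decide +kernel
  have r3 : sA * sB * sA * sB * sA = sB * sA * sB := by
    refine Subtype.ext (Equiv.ext fun p => ?_)
    simp only [Subgroup.coe_mul, Equiv.Perm.mul_apply, one_step rA, one_step rB]
    revert p
    decide +kernel
  have e1 : hB * hB = 1 := huniq _ (mul_mem hBH hBH) _ H.one_mem (by rw [map_mul, hBp, r1, map_one])
  have e2 : hB * hA * hA = hA * hA * hB :=
    huniq _ (mul_mem (mul_mem hBH hAH) hAH) _ (mul_mem (mul_mem hAH hAH) hBH)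
      (by simp only [map_mul, hAp, hBp, r2])
  have e3 : hA * hB * hA * hB * hA = hB * hA * hB :=
    huniq _ (mul_mem (mul_mem (mul_mem (mul_mem hAH hBH) hAH) hBH) hAH) _ (mul_mem (mul_mem hBH hAH) hBH)
      (by simp only [map_mul, hAp, hBp, r3])
  have q1 := congrArg (fun x : ↥ext23 => x.1.left.toAdd (wd 4)) e1
  have q2 := congrArg (fun x : ↥ext23 => x.1.left.toAdd (wd 4)) e2
  have q3 := congrArg (fun x : ↥ext23 => x.1.left.toAdd (wd 1)) e3
  have hA' : hA.1.right = sA := hAp
  have hB' : hB.1.right = sB := hBp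
  simp only [Subgroup.coe_mul, left_mul, SemidirectProduct.mul_right, hA', hB', mul_inv_rev, act_mul] at q1 q2 q3
  have pA : ∀ a, a < 2048 → ∀ b, xorSel liftA.pre a = b → act sA⁻¹ (wd a) = wd b := fun a ha b hb => hb ▸ (hactA a ha).1
  have pB : ∀ a, a < 2048 → ∀ b, xorSel liftB.pre a = b → act sB⁻¹ (wd a) = wd b := fun a ha b hb => hb ▸ (hactB a ha).1
  rw [pB 4 (by norm_num) 1574 (by decide +kernel), show ((1 : ↥ext23).1.left.toAdd (wd 4)) = 0 from rfl] at q1
  rw [pB 4 (by norm_num) 1574 (by decide +kernel), pA 1574 (by norm_num) 257 (by decide +kernel),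
    pA 4 (by norm_num) 12 (by decide +kernel), pA 12 (by norm_num) 42 (by decide +kernel)] at q2
  rw [pA 1 (by norm_num) 518 (by decide +kernel), pB 518 (by norm_num) 167 (by decide +kernel),
    pA 167 (by norm_num) 137 (by decide +kernel), pB 137 (by norm_num) 552 (by decide +kernel),
    pB 1 (by norm_num) 1441 (by decide +kernel), pA 1441 (by norm_num) 1154 (by decide +kernel)] at q3
  simp only [hdA, hdB, show (4 : ℕ) < 2048 by norm_num, show (1574 : ℕ) < 2048 by norm_num,
    show (257 : ℕ) < 2048 by norm_num, show (12 : ℕ) < 2048 by norm_num, show (42 : ℕ) < 2048 by norm_num,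
    show (1 : ℕ) < 2048 by norm_num, show (518 : ℕ) < 2048 by norm_num, show (167 : ℕ) < 2048 by norm_num,
    show (137 : ℕ) < 2048 by norm_num, show (552 : ℕ) < 2048 by norm_num, show (1441 : ℕ) < 2048 by norm_num,
    show (1154 : ℕ) < 2048 by norm_num] at q1 q2 q3
  let cA := [1574, 257, 4, 12, 1, 167, 552, 1441]
  let cB := [4, 1574, 4, 42, 518, 137, 1, 1154]
  have lA : dA (wd 1574) + dA (wd 257) + dA (wd 4) + dA (wd 12) + dA (wd 1) + dA (wd 167) + dA (wd 552) + dA (wd 1441) = 0 := by
    simp only [← map_add, ← wd_xor]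
    rw [(by decide +kernel : 1574 ^^^ 257 ^^^ 4 ^^^ 12 ^^^ 1 ^^^ 167 ^^^ 552 ^^^ 1441 = 0), wd_zero, map_zero]
  have lB : dB (wd 4) + dB (wd 1574) + dB (wd 4) + dB (wd 42) + dB (wd 518) + dB (wd 137) + dB (wd 1) + dB (wd 1154) = 0 := by
    simp only [← map_add, ← wd_xor]
    rw [(by decide +kernel : 4 ^^^ 1574 ^^^ 4 ^^^ 42 ^^^ 518 ^^^ 137 ^^^ 1 ^^^ 1154 = 0), wd_zero, map_zero]
  let TA : ℕ → ZMod 2 := fun n => if liftA.q.testBit n then 1 else 0
  let TB : ℕ → ZMod 2 := fun n => if liftB.q.testBit n then 1 else 0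
  have tot : TB 4 + TB 1574 + (TB 4 + TA 1574 + TA 257) + (TA 4 + TA 12 + TB 42) +
      (TA 1 + TB 518 + TA 167 + TB 137 + TA 552) + (TB 1 + TA 1441 + TB 1154) = 1 := by decide +kernel
  simp only [TA, TB] at tot
  grind

end CfsgLib.M23Ext
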