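import Cfsg.Agent.Mathieu.SmallOrders
import Cfsg.Agent.M23Ext.Data

/-!
Boolean certificates for the lifts of generators of M23.
-/

set_option autoImplicit false

namespace CfsgLib.M23Ext

open CfsgLib.Mathieu

/-- The table of the correction-adjusted quadratic function of index `j` is correct. -/
def quadOK (j : ℕ) : Bool :=
  allBelow 2048 fun a => (quadTabs.getD j 0).testBit a ==
    ((wt (xorSel shortRows a &&& shortRows.getD j 0) / 2 + pop 11 (a &&& linMasks.getD j 0)) % 2 == 1)

/-- The combined tables of the second argument of the loop cocycle after applying the permutation. -/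
def mixTabs (L : LiftData) : List ℕ := L.pre.map fun m => xorSel quadTabs m

/-- The functional equation of a lift at the pair `(a, e j)`. -/
def eqOK (L : LiftData) (a x j T : ℕ) : Bool :=
  (((L.q.testBit (a ^^^ 2 ^ j) != L.q.testBit a) != L.q.testBit (2 ^ j)) !=
    ((quadTabs.getD j 0).testBit a != T.testBit x)) == false

/-- A lift of a permutation in M23. -/
def liftOK (L : LiftData) : Bool :=
  let T := mixTabs L
  tableValid L.tbl && preservesCode L.tbl && (app L.tbl 23 == 23) && (L.pre.length == 11) &&
    (allBelow 11 fun j => Nat.blt (L.pre.getD j 0) 2048 &&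
      (push L.tbl 24 (xorSel shortRows (L.pre.getD j 0)) == shortRows.getD j 0)) &&
    (L.q.testBit 0 == false) &&
    allBelow 2048 fun a =>
      let x := xorSel L.pre a
      allBelow 11 fun j => eqOK L a x j (T.getD j 0)

theorem quad_ok : allBelow 11 quadOK = true := by decide +kernel

end CfsgLib.M23Ext
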